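import Mathlib
import Cfsg.Agent.Factorizations.Basic

/-!
Cossey–Hawkes–Mann: the multiset of conjugacy class sizes detects nilpotency.
-/

set_option autoImplicit false

open Subgroup
open scoped Pointwise

namespace CfsgLib.ClassSizes

set_option linter.style.haveILetI false

section Count

variable {G H : Type*} [Group G] [Finite G] [Group H] [Finite H]

omit [Finite G] in
theorem card_carrier_mk (x : G) :
    Nat.card (ConjClasses.mk x).carrier = (centralizer ({x} : Set G)).index := by
  rw [← ConjAct.orbit_eq_carrier_conjClasses, Nat.card_congr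
      (MulAction.orbitEquivQuotientStabilizer (ConjAct G) x), ← index_eq_card,
    ConjAct.stabilizer_eq_centralizer]
  rfl

theorem card_eq_sum_classes (P : ℕ → Prop) [DecidablePred P] [Fintype (ConjClasses G)] :
    Nat.card {x : G // P (centralizer ({x} : Set G)).index} =
      ∑ C : ConjClasses G, if P (Nat.card C.carrier) then Nat.card C.carrier else 0 := by
  classical
  have := Fintype.ofFinite G
  rw [Nat.card_eq_fintype_card, Fintype.card_subtype, Finset.card_eq_sum_card_fiberwise
    (f := ConjClasses.mk) (t := Finset.univ) (fun _ _ => Finset.mem_univ _)]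
  refine Finset.sum_congr rfl fun C _ => ?_
  obtain ⟨a, rfl⟩ := ConjClasses.mk_surjective C
  have hC : ∀ x : G, ConjClasses.mk x = ConjClasses.mk a →
      (centralizer ({x} : Set G)).index = Nat.card (ConjClasses.mk a).carrier := fun x hx => by
    rw [← hx, card_carrier_mk]
  split_ifs with hP
  · rw [Nat.card_eq_fintype_card, ← Set.toFinset_card]
    congr 1
    ext x
    simp only [Finset.mem_filter, Finset.mem_univ, true_and, Set.mem_toFinset,
      ConjClasses.mem_carrier_iff_mk_eq]
    exact ⟨fun h => h.2, fun h => ⟨(hC x h).symm ▸ hP, h⟩⟩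
  · rw [Finset.card_eq_zero, Finset.filter_eq_empty_iff]
    intro x hx he
    simp only [Finset.mem_filter, Finset.mem_univ, true_and] at hx
    exact hP (hC x he ▸ hx)

theorem sum_classes_eq_sum_range (f : ℕ → ℕ) (N : ℕ) (hN : Nat.card G < N)
    [Fintype (ConjClasses G)] :
    ∑ C : ConjClasses G, f (Nat.card C.carrier) = ∑ k ∈ Finset.range N,
      Nat.card {C : ConjClasses G // Nat.card C.carrier = k} * f k := by
  classical
  rw [← Finset.sum_fiberwise_of_maps_to (g := fun C : ConjClasses G => Nat.card C.carrier)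
    (t := Finset.range N) (fun C _ => Finset.mem_range.2
      ((Finite.card_subtype_le _).trans_lt hN))]
  refine Finset.sum_congr rfl fun k _ => ?_
  rw [Finset.sum_congr rfl (g := fun _ => f k)
    (fun C hC => by rw [(Finset.mem_filter.1 hC).2]), Finset.sum_const, smul_eq_mul,
    Nat.card_eq_fintype_card, Fintype.card_subtype]

/-- Two groups with the same number of classes of each size have the same number of elements
with class size of any given kind. -/
theorem card_eq_of_classes
    (h : ∀ k : ℕ, Nat.card {C : ConjClasses G // Nat.card C.carrier = k} =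
      Nat.card {C : ConjClasses H // Nat.card C.carrier = k}) (P : ℕ → Prop) :
    Nat.card {x : G // P (centralizer ({x} : Set G)).index} =
      Nat.card {x : H // P (centralizer ({x} : Set H)).index} := by
  classical
  have := Fintype.ofFinite (ConjClasses G)
  have := Fintype.ofFinite (ConjClasses H)
  rw [card_eq_sum_classes, card_eq_sum_classes,
    sum_classes_eq_sum_range (fun k => if P k then k else 0) (Nat.card G + Nat.card H + 1) (by omega),
    sum_classes_eq_sum_range (fun k => if P k then k else 0) (Nat.card G + Nat.card H + 1) (by omega)]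
  exact Finset.sum_congr rfl fun k _ => by rw [h]

theorem card_center_eq_card (G : Type*) [Group G] [Finite G] :
    Nat.card (center G) = Nat.card {x : G // (centralizer ({x} : Set G)).index = 1} := by
  refine Nat.card_congr (Equiv.subtypeEquivRight fun x => ?_)
  rw [index_eq_one, eq_top_iff]
  constructor
  · exact fun hx g _ => mem_centralizer_singleton_iff.2 (mem_center_iff.1 hx g)
  · exact fun hx => mem_center_iff.2 fun g => mem_centralizer_singleton_iff.1 (hx (mem_top g))

end Count

section Sylow

variable {G : Type*} [Group G] [Finite G] {p : ℕ} [hp : Fact p.Prime]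

/-- A Sylow subgroup meets the centre in its Sylow subgroup. -/
theorem card_inf_center (P : Sylow p G) :
    Nat.card ((P : Subgroup G) ⊓ center G : Subgroup G) =
      p ^ (Nat.card (center G)).factorization p := by
  obtain ⟨S⟩ : Nonempty (Sylow p (center G)) := inferInstance
  have hSP : (S : Subgroup (center G)).map (center G).subtype ≤ (P : Subgroup G) := by
    obtain ⟨Q, hQ⟩ := (S.2.map (center G).subtype).exists_le_sylow
    obtain ⟨g, hg⟩ := MulAction.exists_smul_eq G Q P
    rintro _ ⟨s, hs, rfl⟩
    rw [← hg, Sylow.coe_subgroup_smul, mem_pointwise_smul_iff_inv_smul_mem]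
    have : ((MulAut.conj g)⁻¹ • (s : G)) = s := by
      rw [← map_inv, MulAut.smul_def, MulAut.conj_apply, inv_inv,
        mul_assoc, ← mem_center_iff.1 s.2 g, inv_mul_cancel_left]
    rw [show (center G).subtype s = (s : G) from rfl, this]
    exact hQ ⟨s, hs, rfl⟩
  refine le_antisymm (Nat.le_of_dvd (pow_pos hp.out.pos _) ?_) ?_
  · obtain ⟨n, hn⟩ := (P.2.to_le (inf_le_left (b := center G))).exists_card_eq
    rw [hn]
    refine pow_dvd_pow p ((hp.out.pow_dvd_iff_le_factorization Nat.card_pos.ne').1 ?_)
    rw [← hn]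
    exact card_dvd_of_le inf_le_right
  · rw [← S.card_eq_multiplicity, ← card_map_of_injective (center G).subtype_injective]
    exact Nat.le_of_dvd Nat.card_pos (card_dvd_of_le (le_inf hSP (map_subtype_le _)))

/-- Elements whose class has order prime to `p`. -/
def pPrimeClass (G : Type*) [Group G] (p : ℕ) : Set G :=
  {x | ¬ p ∣ (centralizer ({x} : Set G)).index}

theorem mem_pPrimeClass_iff {x : G} :
    x ∈ pPrimeClass G p ↔ ∃ Q : Sylow p G, x ∈ centralizer ((Q : Subgroup G) : Set G) := by
  constructor
  · intro hx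
    obtain ⟨R⟩ : Nonempty (Sylow p (centralizer ({x} : Set G))) := inferInstance
    have hc : Nat.card ((R : Subgroup (centralizer ({x} : Set G))).map
        (centralizer ({x} : Set G)).subtype) = p ^ (Nat.card G).factorization p := by
      rw [card_map_of_injective (subtype_injective _), R.card_eq_multiplicity,
        ← card_mul_index (centralizer ({x} : Set G)), Nat.factorization_mul Nat.card_pos.ne'
          index_ne_zero_of_finite, Finsupp.add_apply,
        Nat.factorization_eq_zero_of_not_dvd hx, add_zero]
    refine ⟨Sylow.ofCard _ hc, mem_centralizer_iff.2 ?_⟩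
    rintro y hy
    rw [Sylow.coe_ofCard] at hy
    obtain ⟨z, -, rfl⟩ := hy
    exact (mem_centralizer_singleton_iff.1 z.2)
  · rintro ⟨Q, hQ⟩ hd
    exact Q.not_dvd_index (hd.trans (index_dvd_of_le fun y hy =>
      mem_centralizer_singleton_iff.2 (mem_centralizer_iff.1 hQ y hy)))

/-- With normal Sylow subgroup, the count in nilpotent groups. -/
theorem card_pPrimeClass_of_isNilpotent (hG : Group.IsNilpotent G) :
    Nat.card (pPrimeClass G p) * p ^ (Nat.card G).factorization p =
      p ^ (Nat.card (center G)).factorization p * Nat.card G := by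
  obtain ⟨P⟩ : Nonempty (Sylow p G) := inferInstance
  have : Subsingleton (Sylow p G) := by
    have := Sylow.unique_of_normal P (((Group.isNilpotent_of_finite_tfae (G := G)).out 0 3 rfl rfl).1 hG p hp P)
    infer_instance
  have hU : pPrimeClass G p = (centralizer ((P : Subgroup G) : Set G) : Set G) := by
    ext x
    rw [mem_pPrimeClass_iff]
    exact ⟨fun ⟨Q, hQ⟩ => Subsingleton.elim Q P ▸ hQ, fun h => ⟨P, h⟩⟩
  rw [hU, SetLike.coe_sort_coe]
  haveI : (P : Subgroup G).Normal := ((Group.isNilpotent_of_finite_tfae (G := G)).out 0 3 rfl rfl).1 hG p hp P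
  set C := centralizer ((P : Subgroup G) : Set G)
  have hsup : C ⊔ (P : Subgroup G) = ⊤ := by
    by_contra hne
    obtain ⟨q, hq, hqd⟩ := Nat.exists_prime_and_dvd (mt index_eq_one.1 hne)
    haveI := Fact.mk hq
    obtain ⟨Q⟩ : Nonempty (Sylow q G) := inferInstance
    refine Q.not_dvd_index (hqd.trans (index_dvd_of_le ?_))
    by_cases hqp : q = p
    · subst hqp
      rw [Subsingleton.elim Q P]
      exact le_sup_right
    · refine le_sup_of_le_left fun y hy => mem_centralizer_iff.2 fun z hz => ?_
      haveI : (Q : Subgroup G).Normal := ((Group.isNilpotent_of_finite_tfae (G := G)).out 0 3 rfl rfl).1 hG q inferInstance Q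
      exact (commute_of_normal_of_disjoint (P : Subgroup G) (Q : Subgroup G) inferInstance
        inferInstance (IsPGroup.disjoint_of_ne p q (Ne.symm hqp) _ _ P.2 Q.2) z y hz hy).eq
  have hinf : C ⊓ (P : Subgroup G) = (P : Subgroup G) ⊓ center G := by
    refine le_antisymm (fun x hx => ⟨hx.2, ?_⟩) (fun x hx => ⟨center_le_centralizer _ hx.2, hx.1⟩)
    rw [← centralizer_univ, ← coe_top, ← hsup]
    refine mem_centralizer_iff.2 fun y hy => ?_
    have : (C ⊔ (P : Subgroup G)) ≤ centralizer ({x} : Set G) := sup_le
      (fun c hc => mem_centralizer_singleton_iff.2 (mem_centralizer_iff.1 hc x hx.2).symm)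
      (fun c hc => mem_centralizer_singleton_iff.2 (mem_centralizer_iff.1 hx.1 c hc))
    exact mem_centralizer_singleton_iff.1 (this hy)
  have h1 := relIndex_mul_index (le_top : (P : Subgroup G) ≤ ⊤)
  have h2 : (C ⊓ (P : Subgroup G)).relIndex C = (P : Subgroup G).index := by
    rw [inf_relIndex_left, ← relIndex_sup_left, sup_comm, hsup, relIndex_top_right]
  have h3 := card_mul_index ((C ⊓ (P : Subgroup G)).subgroupOf C)
  rw [Nat.card_congr (subgroupOfEquivOfLe inf_le_left).toEquiv] at h3
  rw [← P.card_eq_multiplicity, ← card_inf_center P, ← hinf, ← h3, ← relIndex, h2,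
    ← card_mul_index (P : Subgroup G)]
  ring

/-- If the count agrees with that of a nilpotent group, the Sylow subgroup is normal. -/
theorem normal_sylow_of_card (P : Sylow p G)
    (hN : Nat.card (pPrimeClass G p) * p ^ (Nat.card G).factorization p =
      p ^ (Nat.card (center G)).factorization p * Nat.card G) :
    (P : Subgroup G).Normal := by
  classical
  set Z₀ := (P : Subgroup G) ⊓ center G with hZ₀
  haveI hZn : Z₀.Normal := ⟨fun x hx g => by
    rwa [mem_center_iff.1 hx.2 g, mul_inv_cancel_right]⟩
  have hZcen : ∀ z ∈ Z₀, ∀ y, y * z = z * y := fun z hz y => mem_center_iff.1 hz.2 y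
  set C := centralizer ((P : Subgroup G) : Set G) with hC
  set m := (Nat.card G) / p ^ (Nat.card G).factorization p with hm
  have hGm : Nat.card G = p ^ (Nat.card G).factorization p * m :=
    (Nat.ordProj_mul_ordCompl_eq_self _ p).symm
  have hpm : ¬ p ∣ m := Nat.not_dvd_ordCompl hp.out Nat.card_pos.ne'
  rw [← card_inf_center P, ← hZ₀] at hN
  have hU : Nat.card (pPrimeClass G p) = Nat.card Z₀ * m := by
    have h1 := hN
    conv_rhs at h1 => rw [hGm]
    exact Nat.eq_of_mul_eq_mul_right (pow_pos hp.out.pos ((Nat.card G).factorization p))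
      (h1.trans (by ring))
  -- multiplication by `Z₀` preserves the set
  have hmul : ∀ x z, z ∈ Z₀ → (x * z ∈ pPrimeClass G p ↔ x ∈ pPrimeClass G p) := by
    intro x z hz
    suffices centralizer ({x * z} : Set G) = centralizer ({x} : Set G) by
      simp only [pPrimeClass, Set.mem_setOf_eq, this]
    ext y
    rw [mem_centralizer_singleton_iff, mem_centralizer_singleton_iff, mul_assoc x z y,
      ← hZcen z hz y, ← mul_assoc, ← mul_assoc, mul_left_inj]
  set f : G → G ⧸ Z₀ := QuotientGroup.mk with hf
  set T : Set (G ⧸ Z₀) := f '' pPrimeClass G p with hT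
  have hpre : f ⁻¹' T = pPrimeClass G p := by
    refine Set.Subset.antisymm ?_ (Set.subset_preimage_image _ _)
    rintro x ⟨y, hy, he⟩
    have := (hmul y _ (QuotientGroup.eq.1 he)).2 hy
    rwa [mul_inv_cancel_left] at this
  have hTcard : Nat.card (pPrimeClass G p) = Nat.card Z₀ * Nat.card T := by
    rw [← hpre, Nat.card_congr (QuotientGroup.preimageMkEquivSubgroupProdSet Z₀ T), Nat.card_prod]
  have hTm : Nat.card T = m :=
    Nat.eq_of_mul_eq_mul_left Nat.card_pos (hTcard.symm.trans hU)
  -- conjugation by `P` on the image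
  letI act : MulAction (P : Subgroup G) T :=
    { smul := fun y t => ⟨(f (y : G)) * t.1 * (f (y : G))⁻¹, by
        obtain ⟨x, hx, he⟩ := t.2
        refine ⟨(y : G) * x * (y : G)⁻¹, ?_, by rw [← he, hf]; simp⟩
        obtain ⟨Q, hQ⟩ := mem_pPrimeClass_iff.1 hx
        refine mem_pPrimeClass_iff.2 ⟨(y : G) • Q, mem_centralizer_iff.2 fun z hz => ?_⟩
        rw [SetLike.mem_coe, Sylow.coe_subgroup_smul, mem_pointwise_smul_iff_inv_smul_mem,
          ← map_inv, MulAut.smul_def, MulAut.conj_apply, inv_inv] at hz
        have := mem_centralizer_iff.1 hQ _ hz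
        calc z * ((y : G) * x * (y : G)⁻¹)
            = (y : G) * ((y : G)⁻¹ * z * (y : G) * x) * (y : G)⁻¹ := by group
          _ = _ := by rw [this]; group⟩
      one_smul := fun t => Subtype.ext (by simp [hf, HSMul.hSMul, SMul.smul])
      mul_smul := fun a b t => Subtype.ext (by simp [hf, HSMul.hSMul, SMul.smul, mul_assoc]) }
  have hmod := P.2.card_modEq_card_fixedPoints T
  -- the fixed points are the image of the centralizer
  have hfix : MulAction.fixedPoints (P : Subgroup G) T ≃ (f '' (C : Set G) : Set (G ⧸ Z₀)) := by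
    refine (Equiv.subtypeSubtypeEquivSubtypeExists _ _).trans (Equiv.subtypeEquivRight fun t => ?_)
    constructor
    · rintro ⟨ht, hfx⟩
      obtain ⟨x, hx, rfl⟩ := ht
      refine ⟨x, mem_centralizer_iff.2 fun y hy => ?_, rfl⟩
      have h1 := congrArg Subtype.val (hfx ⟨y, hy⟩)
      change f y * f x * (f y)⁻¹ = f x at h1
      rw [hf, ← QuotientGroup.mk_mul, ← QuotientGroup.mk_inv, ← QuotientGroup.mk_mul, eq_comm,
        QuotientGroup.eq] at h1
      set z := x⁻¹ * (y * x * y⁻¹) with hzdef
      have hyx : y * x * y⁻¹ = x * z := by rw [hzdef, mul_inv_cancel_left]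
      -- `z` permutes the class of `x` freely
      have hcl : ∀ a ∈ (ConjClasses.mk x).carrier, a * z ∈ (ConjClasses.mk x).carrier := by
        intro a ha
        rw [ConjClasses.mem_carrier_iff_mk_eq, ConjClasses.mk_eq_mk_iff_isConj] at ha ⊢
        obtain ⟨g, rfl⟩ := isConj_iff.1 ha.symm
        refine IsConj.symm (isConj_iff.2 ⟨g * y, ?_⟩)
        calc g * y * x * (g * y)⁻¹ = g * (y * x * y⁻¹) * g⁻¹ := by group
          _ = g * x * (z * g⁻¹) := by rw [hyx]; group
          _ = _ := by rw [← hZcen z h1 g⁻¹]; group
      have hzcl : ∀ (n : ℕ) a, a ∈ (ConjClasses.mk x).carrier →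
          a * z ^ n ∈ (ConjClasses.mk x).carrier := by
        intro n
        induction n with
        | zero => intro a ha; simpa using ha
        | succ n ih => intro a ha; rw [pow_succ, ← mul_assoc]; exact hcl _ (ih a ha)
      have hdvd : orderOf z ∣ (centralizer ({x} : Set G)).index := by
        rw [← card_carrier_mk]
        set S := (ConjClasses.mk x).carrier
        have hSset : ((fun a : G => (a : G ⧸ zpowers z)) ⁻¹'
            ((fun a : G => (a : G ⧸ zpowers z)) '' S)) = S := by
          refine Set.Subset.antisymm ?_ (Set.subset_preimage_image _ _)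
          rintro a ⟨b, hb, he⟩
          obtain ⟨n, hn⟩ := (isOfFinOrder_of_finite z).mem_powers_iff_mem_zpowers.2
            (QuotientGroup.eq.1 he)
          have := hzcl n b hb
          rwa [show z ^ n = b⁻¹ * a from hn, mul_inv_cancel_left] at this
        rw [← hSset, Nat.card_congr (QuotientGroup.preimageMkEquivSubgroupProdSet _ _),
          Nat.card_prod, Nat.card_zpowers]
        exact dvd_mul_right _ _
      obtain ⟨k, hk⟩ := IsPGroup.iff_orderOf.1 P.2 ⟨z, h1.1⟩
      rw [orderOf_mk] at hk
      rcases Nat.eq_zero_or_pos k with rfl | hk0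
      · rw [pow_zero, orderOf_eq_one_iff] at hk
        rw [hk, mul_one] at hyx
        exact mul_inv_eq_iff_eq_mul.1 hyx
      · exact absurd ((dvd_pow_self p hk0.ne').trans (hk ▸ hdvd)) hx
    · rintro ⟨x, hx, rfl⟩
      refine ⟨⟨x, mem_pPrimeClass_iff.2 ⟨P, hx⟩, rfl⟩, fun y => Subtype.ext ?_⟩
      change f y * f x * (f y)⁻¹ = f x
      rw [hf, ← QuotientGroup.mk_mul, mem_centralizer_iff.1 hx y y.2, QuotientGroup.mk_mul,
        mul_inv_cancel_right]
  have hZC : Z₀ ≤ C := fun z hz => mem_centralizer_iff.2 fun y _ => hZcen z hz y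
  have hCpre : f ⁻¹' (f '' (C : Set G)) = C := by
    refine Set.Subset.antisymm ?_ (Set.subset_preimage_image _ _)
    rintro x ⟨y, hy, he⟩
    have := C.mul_mem hy (hZC (QuotientGroup.eq.1 he))
    rwa [mul_inv_cancel_left] at this
  have hCcard : Nat.card C = Nat.card Z₀ * Nat.card (f '' (C : Set G)) := by
    conv_lhs => rw [← SetLike.coe_sort_coe, ← hCpre]
    rw [Nat.card_congr (QuotientGroup.preimageMkEquivSubgroupProdSet _ _), Nat.card_prod]
  have hPC : (P : Subgroup G) ⊓ C = Z₀ := by
    refine (Subgroup.eq_of_le_of_card_ge (le_inf inf_le_left hZC) (Nat.le_of_dvd Nat.card_pos ?_)).symm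
    obtain ⟨a, ha⟩ := (P.2.to_le (inf_le_left : (P : Subgroup G) ⊓ C ≤ _)).exists_card_eq
    rw [ha]
    have h1 : p ^ a ∣ Nat.card Z₀ * Nat.card (f '' (C : Set G)) := by
      rw [← hCcard, ← ha]; exact card_dvd_of_le inf_le_right
    refine (Nat.Coprime.pow_left a ?_).dvd_of_dvd_mul_right h1
    refine hp.out.coprime_iff_not_dvd.2 fun hd => hpm ?_
    rw [← hTm]
    refine Nat.modEq_zero_iff_dvd.1 (hmod.trans ?_)
    rw [Nat.card_congr hfix]
    exact Nat.modEq_zero_iff_dvd.2 hd
  -- the conjugates of the centralizer cover the set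
  set N := normalizer ((P : Subgroup G) : Set G) with hNdef
  have hbound : N.index * Nat.card C ≤ Nat.card (pPrimeClass G p) := by
    have h3 : Nat.card C * Nat.card (P : Subgroup G) ≤ Nat.card Z₀ * Nat.card N := by
      rw [mul_comm, ← Factorizations.card_mul_eq, hPC, mul_comm]
      refine Nat.mul_le_mul_left _ (Nat.card_mono (Set.toFinite _) ?_)
      rintro _ ⟨y, hy, c, hc, rfl⟩
      exact N.mul_mem (le_normalizer hy) (centralizer_le_normalizer _ hc)
    refine Nat.le_of_mul_le_mul_right ?_ (Nat.card_pos (α := (P : Subgroup G)))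
    calc N.index * Nat.card C * Nat.card (P : Subgroup G)
        = N.index * (Nat.card C * Nat.card (P : Subgroup G)) := mul_assoc _ _ _
      _ ≤ N.index * (Nat.card Z₀ * Nat.card N) := Nat.mul_le_mul_left _ h3
      _ = Nat.card Z₀ * Nat.card G := by rw [← card_mul_index N]; ring
      _ = _ := by rw [hU, P.card_eq_multiplicity]; conv_lhs => rw [hGm]
                  ring
  have hcover : Nat.card (pPrimeClass G p) - Nat.card Z₀ ≤
      N.index * (Nat.card C - Nat.card Z₀) := by
    haveI := Fintype.ofFinite G
    haveI := Fintype.ofFinite (Sylow p G)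
    let F : Sylow p G → Finset G := fun Q =>
      (centralizer ((Q : Subgroup G) : Set G) : Set G).toFinset \ (Z₀ : Set G).toFinset
    have hsub : (pPrimeClass G p).toFinset \ (Z₀ : Set G).toFinset ⊆ Finset.univ.biUnion F := by
      intro x hx
      simp only [Finset.mem_sdiff, Set.mem_toFinset, Finset.mem_biUnion, Finset.mem_univ,
        true_and, F] at hx ⊢
      obtain ⟨Q, hQ⟩ := mem_pPrimeClass_iff.1 hx.1
      exact ⟨Q, hQ, hx.2⟩
    have hFc : ∀ Q : Sylow p G, (F Q).card = Nat.card C - Nat.card Z₀ := by
      intro Q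
      rw [Finset.card_sdiff_of_subset (by
        intro z hz
        rw [Set.mem_toFinset] at hz ⊢
        exact mem_centralizer_iff.2 fun y _ => hZcen z hz y), Set.toFinset_card, Set.toFinset_card,
        ← Nat.card_eq_fintype_card, ← Nat.card_eq_fintype_card]
      congr 1
      obtain ⟨g, rfl⟩ := MulAction.exists_smul_eq G P Q
      refine (Nat.card_congr ((MulAut.conj g).toEquiv.subtypeEquiv fun x => ?_)).symm
      change _ ↔ MulAut.conj g x ∈ centralizer _
      rw [Sylow.coe_subgroup_smul, mem_centralizer_iff, mem_centralizer_iff]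
      constructor
      · rintro h _ ⟨z, hz, rfl⟩
        change MulAut.conj g z * MulAut.conj g x = MulAut.conj g x * MulAut.conj g z
        rw [← map_mul, ← map_mul, h z hz]
      · intro h z hz
        exact (MulAut.conj g).injective (by rw [map_mul, map_mul]; exact h _ ⟨z, hz, rfl⟩)
    have h1 := (Finset.card_le_card hsub).trans Finset.card_biUnion_le
    rw [Finset.sum_congr rfl fun Q _ => hFc Q, Finset.sum_const, smul_eq_mul, Finset.card_univ,
      ← Nat.card_eq_fintype_card, P.card_eq_index_normalizer,
      Finset.card_sdiff_of_subset (by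
        intro z hz
        rw [Set.mem_toFinset] at hz ⊢
        exact mem_pPrimeClass_iff.2 ⟨P, hZC hz⟩),
      Set.toFinset_card, Set.toFinset_card, ← Nat.card_eq_fintype_card, ← Nat.card_eq_fintype_card]
      at h1
    exact h1
  rw [← normalizer_eq_top_iff, ← index_eq_one]
  have hi : 0 < N.index := Nat.pos_of_ne_zero index_ne_zero_of_finite
  have hz : 0 < Nat.card Z₀ := Nat.card_pos
  have hcz : Nat.card Z₀ ≤ Nat.card C := Nat.le_of_dvd Nat.card_pos (card_dvd_of_le hZC)
  rw [Nat.mul_sub] at hcover
  by_contra hne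
  have hne2 : 2 ≤ N.index := by
    rcases Nat.lt_or_ge N.index 2 with h | h
    · exact absurd (show N.index = 1 by omega) hne
    · exact h
  have h5 : 2 * Nat.card Z₀ ≤ N.index * Nat.card Z₀ := Nat.mul_le_mul_right _ hne2
  have h6 : N.index * Nat.card Z₀ ≤ N.index * Nat.card C := Nat.mul_le_mul_left _ hcz
  have hzU : Nat.card Z₀ ≤ Nat.card (pPrimeClass G p) := by
    refine Nat.card_mono (Set.toFinite _) fun z hz => mem_pPrimeClass_iff.2 ⟨P, hZC hz⟩
  revert hbound hcover h5 h6 hzU
  generalize N.index * Nat.card C = X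
  generalize N.index * Nat.card Z₀ = Y
  generalize Nat.card (pPrimeClass G p) = U
  generalize Nat.card Z₀ = Z at hz ⊢
  intros
  omega

end Sylow

/-- **Cossey–Hawkes–Mann.** -/
theorem isNilpotent_of_classes {G H : Type*} [Group G] [Finite G] [Group H] [Finite H]
    (hH : Group.IsNilpotent H)
    (h : ∀ k : ℕ, Nat.card {C : ConjClasses G // Nat.card C.carrier = k} =
      Nat.card {C : ConjClasses H // Nat.card C.carrier = k}) : Group.IsNilpotent G := by
  have hcard : Nat.card G = Nat.card H := by
    have := card_eq_of_classes h fun _ => True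
    simpa using this
  have hcen : Nat.card (center G) = Nat.card (center H) := by
    rw [card_center_eq_card, card_center_eq_card]
    exact card_eq_of_classes h fun k => k = 1
  refine ((Group.isNilpotent_of_finite_tfae (G := G)).out 0 3 rfl rfl).2 fun p hp P => ?_
  refine normal_sylow_of_card P ?_
  have h1 : Nat.card (pPrimeClass G p) = Nat.card (pPrimeClass H p) :=
    card_eq_of_classes h fun k => ¬ p ∣ k
  rw [h1, hcard, hcen]
  exact card_pPrimeClass_of_isNilpotent hH

end CfsgLib.ClassSizes
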